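-- Certificate data for HNU3, part 0.
import Cfsg.Agent.Lib.Compute.TCFast
set_option autoImplicit false
set_option maxRecDepth 1000000

open Cfsg.Agent.Lib.Compute.ToddCoxeterPresented

namespace Cfsg.Agent.Lib.Compute.TC.HNU3

/-- the packed entries, part 0 -/
noncomputable def tEp0 : TT := .leaf (nat_lit 0xffffff0000000000000003300000a0000030000000000200000b00000400000000000ffffff0000000000000005300000c0000050001000002300000800000200000000000ffffff000000000000000130000060000010000000000100000900000500000000000ffffff000000000000000010000070000040001000000300000400000000000000000ffffff000000000000000030000020000000000000000100000500000300000000000ffffff0000000000000000100000300000200000000001000001000001)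

end Cfsg.Agent.Lib.Compute.TC.HNU3
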