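-- Certificate data for HNU3; generated by a coset enumerator, checked by the kernel.
import Cfsg.Agent.Lib.Compute.TCFast
import Cfsg.Agent.Lib.Compute.TC.HNRel
import Cfsg.Agent.Lib.Compute.TC.HNU3.DataE0
set_option autoImplicit false
set_option maxRecDepth 1000000

open Cfsg.Agent.Lib.Compute.ToddCoxeterCore Cfsg.Agent.Lib.Compute.ToddCoxeterPresented Cfsg.Agent.Lib.Compute.TCFast

namespace Cfsg.Agent.Lib.Compute.TC.HNU3

/-- the packed entries -/
noncomputable def tE : TT := tEp0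
/-- the definitions -/
noncomputable def tP : TT := .leaf (nat_lit 0x90000000700000003000000010000000000000000)
/-- the parents -/
noncomputable def tQ : TT := .leaf (nat_lit 0x90000000700000003000000010000000000000000)
/-- the orbit tables -/
noncomputable def tO : TT := .leaf (nat_lit 0x0)
/-- the rule table -/
noncomputable def rT : RT := .node (nat_lit 6) (.node (nat_lit 3) (.node (nat_lit 1) (.leaf (nat_lit 0) (nat_lit 0) [nat_lit 1, nat_lit 1, nat_lit 1, nat_lit 1, nat_lit 1]) (.node (nat_lit 2) (.leaf (nat_lit 0) (nat_lit 0) [nat_lit 1, nat_lit 1, nat_lit 1, nat_lit 1, nat_lit 1]) (.leaf (nat_lit 0) (nat_lit 0) [nat_lit 1, nat_lit 1, nat_lit 1, nat_lit 1, nat_lit 1]))) (.node (nat_lit 4) (.leaf (nat_lit 0) (nat_lit 0) [nat_lit 1, nat_lit 1, nat_lit 1, nat_lit 1, nat_lit 1]) (.node (nat_lit 5) (.leaf (nat_lit 0) (nat_lit 0) [nat_lit 1, nat_lit 1, nat_lit 1, nat_lit 1, nat_lit 1]) (.leaf (nat_lit 0) (nat_lit 0) [nat_lit 1, nat_lit 1, nat_lit 1,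 nat_lit 1, nat_lit 1])))) (.node (nat_lit 9) (.node (nat_lit 7) (.leaf (nat_lit 6) (nat_lit 1) [nat_lit 0, nat_lit 0, nat_lit 0, nat_lit 0, nat_lit 0]) (.node (nat_lit 8) (.leaf (nat_lit 6) (nat_lit 1) [nat_lit 0, nat_lit 0, nat_lit 0, nat_lit 0, nat_lit 0]) (.leaf (nat_lit 6) (nat_lit 1) [nat_lit 0, nat_lit 0, nat_lit 0, nat_lit 0, nat_lit 0]))) (.node (nat_lit 10) (.leaf (nat_lit 6) (nat_lit 1) [nat_lit 0, nat_lit 0, nat_lit 0, nat_lit 0, nat_lit 0]) (.node (nat_lit 11) (.leaf (nat_lit 6) (nat_lit 1) [nat_lit 0, nat_lit 0, nat_lit 0, nat_lit 0, nat_lit 0]) (.leaf (nat_lit 6) (nat_lit 1) [nat_lit 0, nat_lit 0, nat_lit 0, nat_lit 0, nat_lit 0]))))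
/-- the relators -/
def relsL : List (List ℕ) := [[nat_lit 0, nat_lit 0, nat_lit 0, nat_lit 0, nat_lit 0, nat_lit 0]]
/-- the subgroup words -/
def hwL : List (List ℕ) := []

/-- the certificate -/
noncomputable def cfg : Cfg :=
  mkCfg (fun k => TT.fld tE (nat_lit 92) (nat_lit 1023) (nat_lit 4951760157141521099596496895) k)
    (nat_lit 18) (nat_lit 6) (nat_lit 6) (nat_lit 2) (nat_lit 3)
    (fun x => List.getD [nat_lit 1, nat_lit 0, nat_lit 2] x x)
    (fun k => TT.fld tP (nat_lit 32) (nat_lit 1023) (nat_lit 4294967295) k)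
    (fun k => TT.fld tQ (nat_lit 32) (nat_lit 1023) (nat_lit 4294967295) k)
    rT hwL

/-- the orbit certificate -/
noncomputable def oc : OCert where
  oid := fun j => Nat.land (TT.fld tO (nat_lit 64) (nat_lit 1023) (nat_lit 18446744073709551615) j) (nat_lit 65535)
  prnt := fun j => Nat.land (Nat.shiftRight (TT.fld tO (nat_lit 64) (nat_lit 1023) (nat_lit 18446744073709551615) j) (nat_lit 16)) (nat_lit 16777215)
  pw := fun j => Nat.land (Nat.shiftRight (TT.fld tO (nat_lit 64) (nat_lit 1023) (nat_lit 18446744073709551615) j) (nat_lit 40)) (nat_lit 255)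
  rk := fun j => Nat.shiftRight (TT.fld tO (nat_lit 64) (nat_lit 1023) (nat_lit 18446744073709551615) j) (nat_lit 48)
  rep := fun d => List.getD [] d 0

/-- the group side of the certificate -/
def D : Data (Fin 1) where
  lets := [(0,true),(0,false)]
  rs := Cfsg.Agent.Lib.Compute.TC.HNRel.rsY
  Hs := []
  rels := relsL
  hw := hwL

end Cfsg.Agent.Lib.Compute.TC.HNU3
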